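import Groth.Agent.Lib.GrpSchField.Field
import Groth.Agent.Lib.Japanese.IntegralSpec
import Mathlib.AlgebraicGeometry.Fiber
import Mathlib.AlgebraicGeometry.Morphisms.Flat
import Mathlib.AlgebraicGeometry.Morphisms.UniversallyClosed
import Mathlib.Topology.JacobsonSpace
import Mathlib.RingTheory.Ideal.MinimalPrime.Localization
import Mathlib.CategoryTheory.Monoidal.Cartesian.Over
import Mathlib.Algebra.Algebra.Pi

/-!
# A profinite family of points of a group scheme lies in an affine open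

In a Jacobson group scheme with rational closed points the closure of an affine open is open. Hence a compact
set of maximal points lies in an affine open (a disjoint union of pieces of affine opens), and a translate of
the latter contains a given profinite family of points.
-/

universe u

open CategoryTheory CategoryTheory.Limits MonoidalCategory CartesianMonoidalCategory MonObj AlgebraicGeometry

namespace GrothLib.ProfTranslate

/-- In a separated scheme a point adherent to an affine open is a specialization of a point of it. -/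
theorem exists_specializes_of_mem_closure {X : Scheme.{u}} [X.IsSeparated] {O : X.Opens} (hO : IsAffineOpen O)
    {y : X} (hy : y ∈ closure (O : Set X)) : ∃ x ∈ O, x ⤳ y := by
  obtain ⟨V, hV, hyV, -⟩ := exists_isAffineOpen_mem_and_subset (U := (⊤ : X.Opens)) (x := y) trivial
  have hOV : IsAffineOpen (O ⊓ V) := hO.inf hV
  obtain ⟨p, rfl⟩ : y ∈ Set.range hV.fromSpec := by rw [hV.range_fromSpec]; exact hyV
  let res := X.presheaf.map (homOfLE (inf_le_right : O ⊓ V ≤ V)).op
  have hfac : Spec.map res ≫ hV.fromSpec = hOV.fromSpec := hV.map_fromSpec hOV _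
  let φ : Γ(X, V) →+* Γ(X, O ⊓ V) := res.hom
  let P : PrimeSpectrum Γ(X, V) := p
  have hsub : hV.fromSpec ⁻¹' (O : Set X) ⊆ PrimeSpectrum.comap φ '' PrimeSpectrum.zeroLocus ((⊥ : Ideal Γ(X, O ⊓ V)) : Set Γ(X, O ⊓ V)) := by
    intro q hq
    have h2 : hV.fromSpec q ∈ Set.range hOV.fromSpec := by
      rw [hOV.range_fromSpec]
      exact ⟨hq, hV.range_fromSpec ▸ ⟨q, rfl⟩⟩
    obtain ⟨r, hr⟩ := h2
    refine ⟨r, bot_le (α := Ideal _), hV.fromSpec.isOpenEmbedding.injective ?_⟩
    rw [← hfac, Scheme.Hom.comp_apply] at hr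
    exact hr
  have hP : P ∈ closure (PrimeSpectrum.comap φ '' PrimeSpectrum.zeroLocus ((⊥ : Ideal Γ(X, O ⊓ V)) : Set Γ(X, O ⊓ V))) :=
    closure_mono hsub (hV.fromSpec.isOpenEmbedding.isOpenMap.preimage_closure_eq_closure_preimage
      hV.fromSpec.continuous _ ▸ (hy : p ∈ hV.fromSpec ⁻¹' closure (O : Set X)))
  rw [PrimeSpectrum.closure_image_comap_zeroLocus] at hP
  obtain ⟨q, hq₁, hq₂⟩ := Ideal.exists_minimalPrimes_le (show Ideal.comap φ ⊥ ≤ P.asIdeal from hP)
  obtain ⟨r, hr, -, hrq⟩ := Ideal.exists_comap_eq_of_mem_minimalPrimes φ _ hq₁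
  let r' : Spec Γ(X, O ⊓ V) := ⟨r, hr⟩
  refine ⟨hOV.fromSpec r', ?_, ?_⟩
  · exact (show hOV.fromSpec r' ∈ ((O ⊓ V : X.Opens) : Set X) from hOV.range_fromSpec ▸ ⟨r', rfl⟩).1
  · rw [← hfac, Scheme.Hom.comp_apply]
    refine Specializes.map ?_ hV.fromSpec.continuous
    exact (PrimeSpectrum.le_iff_specializes (PrimeSpectrum.comap φ ⟨r, hr⟩) P).mp
      (show (PrimeSpectrum.comap φ ⟨r, hr⟩).asIdeal ≤ P.asIdeal from le_of_eq_of_le hrq hq₂)

/-- A relatively clopen piece of an affine open is affine. -/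
theorem isAffineOpen_inf_of_isClosed {X : Scheme.{u}} {V C : X.Opens} (hV : IsAffineOpen V)
    (hC : IsClosed (C : Set X)) : IsAffineOpen (V ⊓ C) := by
  have hle : V ⊓ C ≤ V := inf_le_left
  haveI : IsAffine V.toScheme := hV
  have hr : IsClosed (Set.range (X.homOfLE hle)) := by
    have e : Set.range (X.homOfLE hle) = V.ι ⁻¹' (C : Set X) := by
      ext z
      constructor
      · rintro ⟨y, rfl⟩
        show V.ι (X.homOfLE hle y) ∈ (C : Set X)
        rw [← Scheme.Hom.comp_apply, Scheme.homOfLE_ι]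
        exact y.2.2
      · exact fun hz => ⟨⟨z.1, ⟨z.2, hz⟩⟩, Subtype.ext (Scheme.homOfLE_apply ..)⟩
    rw [e]
    exact hC.preimage V.ι.continuous
  haveI : IsClosedImmersion (X.homOfLE hle) := IsClosedImmersion.of_isPreimmersion _ hr
  exact isAffine_of_isAffineHom (X.homOfLE hle)

/-- The maximal points in finitely many affine opens lie in one affine open, if their closures are open. -/
theorem exists_affine_of_isOpen_closure {X : Scheme.{u}}
    (hop : ∀ O : X.Opens, IsAffineOpen O → IsOpen (closure (O : Set X)))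
    (hsp : ∀ (O : X.Opens), IsAffineOpen O → ∀ y ∈ closure (O : Set X), ∃ x ∈ O, x ⤳ y)
    {J : Type*} (t : Finset J) (V : J → X.Opens) (hV : ∀ j, IsAffineOpen (V j)) :
    ∃ W : X.Opens, IsAffineOpen W ∧ ∀ mx : X, (∀ x, x ⤳ mx → x = mx) → (∃ j ∈ t, mx ∈ V j) → mx ∈ W := by
  classical
  suffices h : ∃ (W C : X.Opens), IsAffineOpen W ∧ W ≤ C ∧ IsClosed (C : Set X) ∧ (∀ j ∈ t, V j ≤ C) ∧
      ∀ mx : X, (∀ x, x ⤳ mx → x = mx) → mx ∈ C → mx ∈ W by
    obtain ⟨W, C, hW, -, -, hVC, hmem⟩ := h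
    exact ⟨W, hW, fun mx hmx ⟨j, hj, hj'⟩ => hmem mx hmx (hVC j hj hj')⟩
  induction t using Finset.induction_on with
  | empty => exact ⟨⊥, ⊥, isAffineOpen_bot X, le_rfl, by simp, by simp, fun _ _ h => h⟩
  | insert a t ha ih =>
    obtain ⟨W, C, hW, hWC, hC, hVC, hmem⟩ := ih
    let Cc : X.Opens := ⟨(C : Set X)ᶜ, hC.isOpen_compl⟩
    let D : X.Opens := ⟨closure (V a : Set X), hop _ (hV a)⟩
    refine ⟨W ⊔ V a ⊓ Cc, C ⊔ D, hW.sup_of_disjoint (isAffineOpen_inf_of_isClosed (hV a) C.2.isClosed_compl) ?_,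
      sup_le (hWC.trans le_sup_left) (fun x hx => Or.inr (subset_closure hx.1)), hC.union isClosed_closure, ?_, ?_⟩
    · rw [disjoint_iff, eq_bot_iff]
      exact fun x hx => hx.2.2 (hWC hx.1)
    · intro j hj
      rcases Finset.mem_insert.mp hj with rfl | hj
      · exact fun x hx => Or.inr (subset_closure hx)
      · exact (hVC j hj).trans le_sup_left
    · intro mx hmx hmemC
      by_cases h : mx ∈ C
      · exact Or.inl (hmem mx hmx h)
      · obtain ⟨x, hx, hx'⟩ := hsp _ (hV a) mx (hmemC.resolve_left h)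
        exact Or.inr ⟨hmx x hx' ▸ hx, h⟩

variable {k : Type u} [Field k] {G : Over (Spec (CommRingCat.of k))} [GrpObj G]

/-- The topological point of a rational point. -/
noncomputable abbrev pt (g : 𝟙_ (Over (Spec (CommRingCat.of k))) ⟶ G) : G.left :=
  g.left (IsLocalRing.closedPoint k)

/-- Left translation. -/
noncomputable def ltr (g : 𝟙_ (Over (Spec (CommRingCat.of k))) ⟶ G) : G ⟶ G := (toUnit G ≫ g) * 𝟙 G

/-- Right translation. -/
noncomputable def rtr (g : 𝟙_ (Over (Spec (CommRingCat.of k))) ⟶ G) : G ⟶ G := 𝟙 G * (toUnit G ≫ g)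

instance (g : 𝟙_ (Over (Spec (CommRingCat.of k))) ⟶ G) : IsIso (ltr g) :=
  ⟨(toUnit G ≫ g)⁻¹ * 𝟙 G, by simp [ltr, MonObj.comp_mul, GrpObj.comp_inv],
    by simp [ltr, MonObj.comp_mul, GrpObj.comp_inv]⟩

instance (g : 𝟙_ (Over (Spec (CommRingCat.of k))) ⟶ G) : IsIso (rtr g) :=
  ⟨𝟙 G * (toUnit G ≫ g)⁻¹, by simp [rtr, MonObj.comp_mul, GrpObj.comp_inv],
    by simp [rtr, MonObj.comp_mul, GrpObj.comp_inv]⟩

instance (g : 𝟙_ (Over (Spec (CommRingCat.of k))) ⟶ G) : IsIso (ltr g).left :=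
  inferInstanceAs (IsIso ((Over.forget _).map (ltr g)))

instance (g : 𝟙_ (Over (Spec (CommRingCat.of k))) ⟶ G) : IsIso (rtr g).left :=
  inferInstanceAs (IsIso ((Over.forget _).map (rtr g)))

theorem comp_ltr {Z : Over (Spec (CommRingCat.of k))} (g : 𝟙_ (Over (Spec (CommRingCat.of k))) ⟶ G) (z : Z ⟶ G) :
    z ≫ ltr g = (toUnit Z ≫ g) * z := by simp [ltr, MonObj.comp_mul]

theorem comp_rtr {Z : Over (Spec (CommRingCat.of k))} (g : 𝟙_ (Over (Spec (CommRingCat.of k))) ⟶ G) (z : Z ⟶ G) :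
    z ≫ rtr g = z * (toUnit Z ≫ g) := by simp [rtr, MonObj.comp_mul]

theorem ltr_pt (g z : 𝟙_ (Over (Spec (CommRingCat.of k))) ⟶ G) : (ltr g).left (pt z) = pt (g * z) := by
  show (z ≫ ltr g).left _ = _
  rw [comp_ltr, show toUnit (𝟙_ (Over (Spec (CommRingCat.of k)))) = 𝟙 _ from toUnit_unique _ _, Category.id_comp]

theorem rtr_pt (g z : 𝟙_ (Over (Spec (CommRingCat.of k))) ⟶ G) : (rtr g).left (pt z) = pt (z * g) := by
  show (z ≫ rtr g).left _ = _
  rw [comp_rtr, show toUnit (𝟙_ (Over (Spec (CommRingCat.of k)))) = 𝟙 _ from toUnit_unique _ _, Category.id_comp]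

theorem isHomeomorph_left (f : G ⟶ G) [IsIso f.left] : IsHomeomorph f.left :=
  (Scheme.homeoOfIso (asIso f.left)).isHomeomorph

variable [JacobsonSpace G.left]
  (hrat : ∀ g : G.left, IsClosed ({g} : Set G.left) →
    ∃ x : 𝟙_ (Over (Spec (CommRingCat.of k))) ⟶ G, pt x = g)

include hrat in
/-- The closure of an affine open is open. -/
theorem isOpen_closure_affine [G.left.IsSeparated] (O : G.left.Opens) (hO : IsAffineOpen O) :
    IsOpen (closure (O : Set G.left)) := by
  rw [← interior_eq_iff_isOpen]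
  by_contra hne
  have hns : ¬ closure (O : Set G.left) ⊆ interior (closure (O : Set G.left)) :=
    fun h => hne (interior_subset.antisymm h)
  obtain ⟨y₀, hy₀⟩ := Set.not_subset.mp hns
  obtain ⟨y, ⟨hyc, hyi⟩, hycl⟩ := nonempty_inter_closedPoints (Z := closure (O : Set G.left) \ interior _)
    ⟨y₀, hy₀⟩ (isClosed_closure.sdiff isOpen_interior).isLocallyClosed
  refine hyi ?_
  obtain ⟨py, rfl⟩ := hrat y hycl
  obtain ⟨x, hxO, hxy⟩ := exists_specializes_of_mem_closure hO hyc
  let S := closure ({x} : Set G.left)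
  have hyS : pt py ∈ S := specializes_iff_mem_closure.mp hxy
  obtain ⟨o, ⟨hoS, hoO⟩, hocl⟩ := nonempty_inter_closedPoints (Z := S ∩ (O : Set G.left))
    ⟨x, subset_closure rfl, hxO⟩ (isClosed_closure.isLocallyClosed.inter O.2.isLocallyClosed)
  obtain ⟨po, rfl⟩ := hrat o hocl
  let h := po⁻¹ * py
  let R := rtr h
  let O' : Set G.left := R.left '' O
  have hO' : IsOpen O' := (isHomeomorph_left R).isOpenMap _ O.2
  have hy' : pt py ∈ O' := ⟨pt po, hoO, by rw [rtr_pt, mul_inv_cancel_left]⟩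
  refine mem_interior.mpr ⟨O', ?_, hO', hy'⟩
  by_contra hnot
  obtain ⟨w₀, hw₀, hw₀'⟩ := Set.not_subset.mp hnot
  obtain ⟨w, ⟨⟨v, hvO, hvw⟩, hwc⟩, hwcl⟩ := nonempty_inter_closedPoints (Z := O' ∩ (closure (O : Set G.left))ᶜ)
    ⟨w₀, hw₀, hw₀'⟩ (hO'.inter isClosed_closure.isOpen_compl).isLocallyClosed
  subst hvw
  have hvcl : IsClosed ({v} : Set G.left) := by
    have h1 := (mem_closedPoints_iff.mp hwcl).preimage R.left.continuous
    rwa [← Set.image_singleton, (isHomeomorph_left R).injective.preimage_image] at h1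
  obtain ⟨pv, rfl⟩ := hrat v hvcl
  let g := pv * po⁻¹
  let L := ltr g
  have hS : IsPreirreducible (L.left '' S) :=
    (isIrreducible_singleton.closure.image _ L.left.continuous.continuousOn).2
  have hv : pt pv ∈ L.left '' S := ⟨pt po, hoS, by rw [ltr_pt, inv_mul_cancel_right]⟩
  have hw : R.left (pt pv) ∈ L.left '' S := ⟨pt py, hyS, by rw [ltr_pt, rtr_pt]; exact congrArg pt (_root_.mul_assoc _ _ _)⟩
  exact hwc (closure_mono Set.inter_subset_right
    (subset_closure_inter_of_isPreirreducible_of_isOpen hS O.2 ⟨_, hv, hvO⟩ hw))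

include hrat in
/-- A profinite family of points of the group lies in an affine open. -/
theorem exists_affineOpen_range_subset {A : Type u} [CommRing A] [Algebra k A] [Algebra.IsIntegral k A]
    (f' : Over.mk (Spec.map (CommRingCat.ofHom (algebraMap k A))) ⟶ G) :
    ∃ U : G.left.Opens, IsAffineOpen U ∧ Set.range f'.left ⊆ (U : Set G.left) := by
  classical
  haveI : IsSeparated G.hom := GrpSchField.isSeparated G
  haveI : G.left.IsSeparated := ⟨by
    rw [← terminal.comp_from G.hom]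
    infer_instance⟩
  let SA : Over (Spec (CommRingCat.of k)) := Over.mk (Spec.map (CommRingCat.ofHom (algebraMap k A)))
  haveI : IsIntegralHom SA.hom := IsIntegralHom.SpecMap_iff.mpr (algebraMap_isIntegral_iff.mpr inferInstance)
  haveI : Flat SA.hom := Flat.SpecMap_iff.mpr (RingHom.flat_algebraMap_iff.mpr inferInstance)
  let q : (G ⊗ SA).left ⟶ G.left := (fst G SA).left
  haveI : IsIntegralHom q := inferInstanceAs (IsIntegralHom (pullback.fst G.hom SA.hom))
  haveI : Flat q := inferInstanceAs (Flat (pullback.fst G.hom SA.hom))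
  let τ : G ⊗ SA ⟶ G ⊗ SA := lift (fst G SA * (snd G SA ≫ f')) (snd G SA)
  haveI : IsIso τ :=
    ⟨lift (fst G SA * (snd G SA ≫ f')⁻¹) (snd G SA), by simp [τ, comp_lift, MonObj.comp_mul, GrpObj.comp_inv],
      by simp [τ, comp_lift, MonObj.comp_mul, GrpObj.comp_inv]⟩
  haveI : IsIso τ.left := inferInstanceAs (IsIso ((Over.forget _).map τ))
  let m : (G ⊗ SA).left ⟶ G.left := (fst G SA * (snd G SA ≫ f')).left
  have hm : τ.left ≫ q = m := by
    rw [← Over.comp_left, lift_fst]
  haveI : Flat m := by rw [← hm]; infer_instance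
  -- a maximal point
  let e : G.left := pt η[G]
  obtain ⟨gen₀, hgen₀⟩ := QuasiSober.sober
    (irreducibleComponent_mem_irreducibleComponents e).1 isClosed_irreducibleComponent
  have hmax : ∀ x, x ⤳ gen₀ → x = gen₀ := by
    intro x hx
    have h1 : irreducibleComponent e ⊆ closure {x} := by rw [← hgen₀]; exact hx.closure_subset
    have h2 : irreducibleComponent e = closure {x} :=
      (irreducibleComponent_mem_irreducibleComponents e).eq_of_le isIrreducible_singleton.closure h1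
    exact Inseparable.eq (inseparable_iff_closure_eq.mpr (h2.symm.trans hgen₀.symm))
  let M := m '' (q ⁻¹' {gen₀})
  have hMc : IsCompact M := (q.isCompact_preimage_singleton gen₀).image m.continuous
  have hMmax : ∀ y ∈ M, ∀ x, x ⤳ y → x = y := by
    rintro _ ⟨z, hz, rfl⟩ x hx
    obtain ⟨z', hz', rfl⟩ := Flat.generalizingMap m hx
    have h1 : q z' = q z := by
      rw [show q z = gen₀ from hz]
      exact hmax _ (by simpa [show q z = gen₀ from hz] using hz'.map q.continuous)
    rw [Japanese.eq_of_specializes_of_isIntegralHom q hz' h1]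
  choose V hV hmemV _ using fun y : G.left =>
    exists_isAffineOpen_mem_and_subset (U := (⊤ : G.left.Opens)) (x := y) trivial
  obtain ⟨t, ht⟩ := hMc.elim_finite_subcover (fun y => (V y : Set G.left)) (fun y => (V y).2)
    fun y _ => Set.mem_iUnion.mpr ⟨y, hmemV y⟩
  obtain ⟨W, hW, hWmem⟩ := exists_affine_of_isOpen_closure (isOpen_closure_affine hrat)
    (fun O hO y hy => exists_specializes_of_mem_closure hO hy) t V hV
  have hMW : M ⊆ W := fun y hy => by
    obtain ⟨i, hi, hi'⟩ := Set.mem_iUnion₂.mp (ht hy)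
    exact hWmem y (hMmax y hy) ⟨i, hi, hi'⟩
  -- the bad translates
  let B := q '' (m ⁻¹' (W : Set G.left)ᶜ)
  have hB : IsClosed B := q.isClosedMap _ (W.2.isClosed_compl.preimage m.continuous)
  have hgen₀B : gen₀ ∈ Bᶜ := fun ⟨z, hz, hz'⟩ => hz (hMW ⟨z, hz', rfl⟩)
  obtain ⟨g₀, hg₀, hg₀cl⟩ := nonempty_inter_closedPoints (Z := Bᶜ) ⟨gen₀, hgen₀B⟩ hB.isOpen_compl.isLocallyClosed
  obtain ⟨g, rfl⟩ := hrat g₀ hg₀cl
  refine ⟨(ltr g).left ⁻¹ᵁ W, hW.preimage_of_isIso _, ?_⟩
  rintro _ ⟨a, rfl⟩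
  let σ : SA ⟶ G ⊗ SA := lift (toUnit SA ≫ g) (𝟙 SA)
  have hq : q (σ.left a) = pt g := by
    show (σ ≫ fst G SA).left a = _
    rw [lift_fst]
    exact congrArg g.left (Subsingleton.elim (α := Spec (CommRingCat.of k)) _ _)
  have hmσ : m (σ.left a) = (ltr g).left (f'.left a) := by
    show (σ ≫ (fst G SA * (snd G SA ≫ f'))).left a = (f' ≫ ltr g).left a
    rw [MonObj.comp_mul, lift_fst, lift_snd_assoc, Category.id_comp, comp_ltr]
  show (ltr g).left (f'.left a) ∈ W
  rw [← hmσ]
  by_contra hn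
  exact hg₀ ⟨σ.left a, hn, hq⟩

end GrothLib.ProfTranslate
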