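import Groth.Agent.Lib.ProfTranslate.Main
import Groth.Agent.Lib.GrpSchField.Components
import Groth.Agent.Lib.GrpSchField.ImageSmooth
import Groth.Agent.Lib.GrpSchField.Open

/-!
# Closures of affine opens of an arbitrary group scheme over a field are open

Consequently the connected component of the unit is the irreducible component.
-/

universe u

open CategoryTheory CategoryTheory.Limits MonoidalCategory CartesianMonoidalCategory MonObj AlgebraicGeometry

namespace GrothLib.ProfTranslate

variable {k : Type u} [Field k] {G : Over (Spec (CommRingCat.of k))} [GrpObj G]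

/-- The spectrum of an extension field as an object over the base. -/
noncomputable abbrev fieldPt {L : Type u} [Field L] (x : Spec (CommRingCat.of L) ⟶ Spec (CommRingCat.of k)) :
    Over (Spec (CommRingCat.of k)) :=
  Over.mk x

/-- The point under a field-valued point at a residue field. -/
theorem fieldPoint_apply {X : Scheme.{u}} (y : X) {L : Type u} [Field L] (φ : X.residueField y ⟶ CommRingCat.of L)
    (z : Spec (CommRingCat.of L)) : (Spec.map φ ≫ X.fromSpecResidueField y) z = y := by
  rw [Scheme.Hom.comp_apply, Scheme.fromSpecResidueField_apply]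

/-- Translation inside an irreducible family: the point `b` is interior to the closure of any open containing `a`. -/
theorem mem_interior_closure_of_family {L : Type u} [Field L] [IsAlgClosed L]
    (A : Spec (CommRingCat.of L) ⟶ Spec (CommRingCat.of k)) {S : Scheme.{u}} [IrreducibleSpace S]
    (str : S ⟶ Spec (CommRingCat.of L)) (f : Over.mk (str ≫ A) ⟶ G)
    (a b : fieldPt A ⟶ Over.mk (str ≫ A)) (ha : a.left ≫ str = 𝟙 _) (hb : b.left ≫ str = 𝟙 _)
    (O : G.left.Opens) (haO : (a ≫ f).left (IsLocalRing.closedPoint L) ∈ O) :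
    (b ≫ f).left (IsLocalRing.closedPoint L) ∈ interior (closure (O : Set G.left)) := by
  let h : fieldPt A ⟶ G := (a ≫ f)⁻¹ * (b ≫ f)
  let τ : fieldPt A ⊗ G ⟶ fieldPt A ⊗ G := lift (fst _ _) (snd _ _ * (fst _ _ ≫ h))
  haveI : IsIso τ :=
    ⟨lift (fst _ _) (snd _ _ * (fst _ _ ≫ h)⁻¹), by simp [τ, comp_lift, MonObj.comp_mul, GrpObj.comp_inv],
      by simp [τ, comp_lift, MonObj.comp_mul, GrpObj.comp_inv]⟩
  haveI : IsIso τ.left := inferInstanceAs (IsIso ((Over.forget _).map τ))
  let R : fieldPt A ⊗ G ⟶ G := snd _ _ * (fst _ _ ≫ h)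
  haveI : UniversallyOpen (snd (fieldPt A) G).left := GrpSchField.universallyOpen_snd G _
  haveI : UniversallyOpen R.left := by
    rw [show R = τ ≫ snd _ _ from (lift_snd _ _).symm, Over.comp_left]
    infer_instance
  let O' : Set G.left := R.left '' ((snd (fieldPt A) G).left ⁻¹' O)
  refine mem_interior.mpr ⟨O', ?_, R.left.isOpenMap _ (O.2.preimage (snd (fieldPt A) G).left.continuous), ?_⟩
  swap
  · refine ⟨(lift (𝟙 (fieldPt A)) (a ≫ f)).left (IsLocalRing.closedPoint L), ?_, ?_⟩
    · show (lift (𝟙 (fieldPt A)) (a ≫ f) ≫ snd _ _).left _ ∈ O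
      rw [lift_snd]
      exact haO
    · show (lift (𝟙 (fieldPt A)) (a ≫ f) ≫ R).left _ = _
      rw [MonObj.comp_mul, lift_snd, lift_fst_assoc, Category.id_comp, mul_inv_cancel_left]
  · rintro _ ⟨p, hp, rfl⟩
    let L' := AlgebraicClosure ((fieldPt A ⊗ G).left.residueField p)
    let e₀ : Spec (CommRingCat.of L') ⟶ (fieldPt A ⊗ G).left :=
      Spec.map (CommRingCat.ofHom (algebraMap ((fieldPt A ⊗ G).left.residueField p) L')) ≫ (fieldPt A ⊗ G).left.fromSpecResidueField p
    let pt' : Spec (CommRingCat.of L') := IsLocalRing.closedPoint L'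
    let e : fieldPt (e₀ ≫ (fieldPt A ⊗ G).hom) ⟶ fieldPt A ⊗ G := Over.homMk e₀ rfl
    have hep : e.left pt' = p := by
      exact fieldPoint_apply p _ pt' 
    let β := e ≫ fst (fieldPt A) G
    let g := e ≫ snd (fieldPt A) G
    have hg : g.left pt' ∈ O := by
      show (snd (fieldPt A) G).left (e.left pt') ∈ O
      rw [hep]; exact hp
    let β₀ : Spec (CommRingCat.of L') ⟶ Spec (CommRingCat.of L) := β.left
    haveI : IrreducibleSpace (pullback str β₀ : Scheme.{u}) := GrpSchField.irreducibleSpace_pullback str β₀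
    let T : Over (Spec (CommRingCat.of k)) := Over.mk (pullback.snd str β₀ ≫ e₀ ≫ (fieldPt A ⊗ G).hom)
    let pS : T ⟶ Over.mk (str ≫ A) := Over.homMk (pullback.fst str β₀) (by
      show pullback.fst str β₀ ≫ str ≫ A = pullback.snd str β₀ ≫ e₀ ≫ (fieldPt A ⊗ G).hom
      rw [← Category.assoc, pullback.condition, Category.assoc]
      exact congrArg _ (Over.w β))
    let pB : T ⟶ fieldPt (e₀ ≫ (fieldPt A ⊗ G).hom) := Over.homMk (pullback.snd str β₀) rfl
    let m : T ⟶ G := (pB ≫ (g * (β ≫ a ≫ f)⁻¹)) * (pS ≫ f)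
    have hsec : ∀ (c : fieldPt A ⟶ Over.mk (str ≫ A)), c.left ≫ str = 𝟙 _ →
        ∃ σ : fieldPt (e₀ ≫ (fieldPt A ⊗ G).hom) ⟶ T, σ ≫ pB = 𝟙 _ ∧ σ ≫ pS = β ≫ c := by
      intro c hc
      refine ⟨Over.homMk (pullback.lift (β ≫ c).left (𝟙 _) (by
        exact ((Category.assoc _ _ _).trans (congrArg (β.left ≫ ·) hc)).trans ((Category.comp_id _).trans (Category.id_comp _).symm)))
        (by
          show pullback.lift _ _ _ ≫ pullback.snd str β₀ ≫ e₀ ≫ (fieldPt A ⊗ G).hom = _
          rw [pullback.lift_snd_assoc]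
          exact Category.id_comp _),
        Over.OverMorphism.ext (pullback.lift_snd _ _ _), Over.OverMorphism.ext (pullback.lift_fst _ _ _)⟩
    obtain ⟨σa, hσa, hσa'⟩ := hsec a ha
    obtain ⟨σb, hσb, hσb'⟩ := hsec b hb
    have hva : σa ≫ m = g := by
      rw [MonObj.comp_mul, reassoc_of% hσa, reassoc_of% hσa', inv_mul_cancel_right]
    have hvb : σb ≫ m = e ≫ R := by
      rw [MonObj.comp_mul, reassoc_of% hσb, reassoc_of% hσb', MonObj.comp_mul, ← Category.assoc e, _root_.mul_assoc]
      congr 1
      simp [h, β, MonObj.comp_mul, GrpObj.comp_inv]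
    have hirr : IsPreirreducible (Set.range m.left) := by
      rw [← Set.image_univ]
      exact ((IrreducibleSpace.isIrreducible_univ (pullback str β₀ : Scheme.{u})).image m.left m.left.continuous.continuousOn).2
    have h1 : g.left pt' ∈ Set.range m.left := ⟨σa.left pt', by
      rw [← Scheme.Hom.comp_apply, ← Over.comp_left, hva]⟩
    have h2 : R.left p ∈ Set.range m.left := ⟨σb.left pt', by
      rw [← Scheme.Hom.comp_apply, ← Over.comp_left, hvb, Over.comp_left, Scheme.Hom.comp_apply, hep]⟩
    exact closure_mono Set.inter_subset_right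
      (subset_closure_inter_of_isPreirreducible_of_isOpen hirr O.2 ⟨_, h1, hg⟩ h2)

variable (G) in
/-- The total space of a group scheme over a field is separated. -/
theorem left_isSeparated : G.left.IsSeparated := by
  haveI : IsSeparated G.hom := GrpSchField.isSeparated G
  exact ⟨by
    rw [← terminal.comp_from G.hom]
    infer_instance⟩

/-- The closure of an affine open of a group scheme over a field is open. -/
theorem isOpen_closure (O : G.left.Opens) (hO : IsAffineOpen O) : IsOpen (closure (O : Set G.left)) := by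
  haveI := left_isSeparated G
  refine isOpen_iff_forall_mem_open.mpr fun y hy =>
    ⟨interior (closure (O : Set G.left)), interior_subset, isOpen_interior, ?_⟩
  obtain ⟨x, hxO, hxy⟩ := exists_specializes_of_mem_closure hO hy
  -- a rational point over `y`
  let L₀ := AlgebraicClosure (G.left.residueField y)
  let g₀ : Spec (CommRingCat.of L₀) ⟶ G.left :=
    Spec.map (CommRingCat.ofHom (algebraMap (G.left.residueField y) L₀)) ≫ G.left.fromSpecResidueField y
  let A₀ := fieldPt (g₀ ≫ G.hom)
  let gy : A₀ ⟶ G := Over.homMk g₀ rfl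
  let q : (A₀ ⊗ G).left ⟶ G.left := (snd A₀ G).left
  haveI : Flat q := inferInstanceAs (Flat (pullback.snd A₀.hom G.hom))
  let y' := (lift (𝟙 A₀) gy).left (IsLocalRing.closedPoint L₀)
  have hqy : q y' = y := by
    show (lift (𝟙 A₀) gy ≫ snd A₀ G).left _ = y
    rw [lift_snd]
    exact fieldPoint_apply y _ _
  obtain ⟨x', hx', hqx⟩ := Flat.generalizingMap q (hqy.symm ▸ hxy : x ⤳ q y')
  let Z : TopologicalSpace.Closeds ↥(A₀ ⊗ G).left := ⟨closure {x'}, isClosed_closure⟩
  let I := Scheme.IdealSheafData.vanishingIdeal Z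
  let i := I.subschemeι
  have hi : Set.range i = closure ({x'} : Set ↥(A₀ ⊗ G).left) := by
    rw [Scheme.IdealSheafData.range_subschemeι, Scheme.IdealSheafData.coe_support_vanishingIdeal]
    rfl
  haveI : IrreducibleSpace I.subscheme := by
    obtain ⟨z, hz⟩ : x' ∈ Set.range i := hi ▸ subset_closure rfl
    have hz' : closure ({z} : Set I.subscheme) = Set.univ := by
      rw [i.isEmbedding.isInducing.closure_eq_preimage_closure_image, Set.image_singleton, hz, ← hi, Set.preimage_range]
    have h := (isIrreducible_singleton (x := z)).closure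
    rw [hz'] at h
    exact { isPreirreducible_univ := h.2, toNonempty := ⟨z⟩ }
  -- a rational point over `x'`
  let L := AlgebraicClosure ((A₀ ⊗ G).left.residueField x')
  let g₁ : Spec (CommRingCat.of L) ⟶ (A₀ ⊗ G).left :=
    Spec.map (CommRingCat.ofHom (algebraMap ((A₀ ⊗ G).left.residueField x') L)) ≫ (A₀ ⊗ G).left.fromSpecResidueField x'
  let A := g₁ ≫ (A₀ ⊗ G).hom
  let gx : fieldPt A ⟶ A₀ ⊗ G := Over.homMk g₁ rfl
  let gamma := gx ≫ fst A₀ G
  let gamma₀ : Spec (CommRingCat.of L) ⟶ Spec (CommRingCat.of L₀) := gamma.left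
  let str₀ : I.subscheme ⟶ Spec (CommRingCat.of L₀) := i ≫ (fst A₀ G).left
  let S : Scheme.{u} := pullback str₀ gamma₀
  haveI : IrreducibleSpace S := GrpSchField.irreducibleSpace_pullback str₀ gamma₀
  let str : S ⟶ Spec (CommRingCat.of L) := pullback.snd str₀ gamma₀
  let j : Over.mk (str ≫ A) ⟶ A₀ ⊗ G := Over.homMk (pullback.fst str₀ gamma₀ ≫ i) (by
    show (pullback.fst str₀ gamma₀ ≫ i) ≫ (A₀ ⊗ G).hom = pullback.snd str₀ gamma₀ ≫ A
    have h1 : i ≫ (A₀ ⊗ G).hom = str₀ ≫ A₀.hom := by rw [Category.assoc, Over.w (fst A₀ G)]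
    have h2 : gamma₀ ≫ A₀.hom = A := Over.w gamma
    rw [Category.assoc, h1, ← h2, pullback.condition_assoc])
  have hlift : ∀ c : fieldPt A ⟶ A₀ ⊗ G, c ≫ fst A₀ G = gamma →
      c.left (IsLocalRing.closedPoint L) ∈ closure ({x'} : Set ↥(A₀ ⊗ G).left) →
      ∃ σ : fieldPt A ⟶ Over.mk (str ≫ A), σ.left ≫ str = 𝟙 _ ∧ σ ≫ j = c := by
    intro c hc hmem
    haveI : IsReduced (fieldPt A).left := inferInstanceAs (IsReduced (Spec (CommRingCat.of L)))
    obtain ⟨l, hl⟩ := GrpSchField.exists_lift_of_range_subset i c.left (by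
      rintro _ ⟨z, rfl⟩
      rw [hi, Subsingleton.elim (α := Spec (CommRingCat.of L)) z (IsLocalRing.closedPoint L)]
      exact hmem)
    have hl' : l ≫ str₀ = 𝟙 _ ≫ gamma.left := by
      rw [← Category.assoc, hl, ← Over.comp_left, hc]
      exact (Category.id_comp _).symm
    refine ⟨Over.homMk (pullback.lift l (𝟙 _) hl') ?_, pullback.lift_snd _ _ _, Over.OverMorphism.ext ?_⟩
    · show pullback.lift _ _ _ ≫ pullback.snd str₀ gamma₀ ≫ A = A
      rw [pullback.lift_snd_assoc]
      exact Category.id_comp _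
    · show pullback.lift _ _ _ ≫ pullback.fst str₀ gamma₀ ≫ i = c.left
      rw [pullback.lift_fst_assoc, hl]
  obtain ⟨sa, hsa, hsaj⟩ := hlift gx rfl (by
    show g₁ (IsLocalRing.closedPoint L) ∈ _
    rw [show g₁ (IsLocalRing.closedPoint L) = x' from fieldPoint_apply x' _ _]
    exact subset_closure rfl)
  obtain ⟨sb, hsb, hsbj⟩ := hlift (gamma ≫ lift (𝟙 A₀) gy)
    (by rw [Category.assoc, lift_fst, Category.comp_id]) (by
    show (lift (𝟙 A₀) gy).left (gamma.left _) ∈ _
    exact (congrArg (lift (𝟙 A₀) gy).left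
      (Subsingleton.elim (α := Spec (CommRingCat.of L₀)) (gamma.left _) (IsLocalRing.closedPoint L₀))) ▸
      specializes_iff_mem_closure.mp hx')
  have hqa : (sa ≫ j ≫ snd A₀ G).left (IsLocalRing.closedPoint L) = x := by
    rw [← Category.assoc, hsaj]
    exact (congrArg q (fieldPoint_apply x' _ _)).trans hqx
  have hqb : (sb ≫ j ≫ snd A₀ G).left (IsLocalRing.closedPoint L) = y := by
    rw [← Category.assoc, hsbj]
    show q ((lift (𝟙 A₀) gy).left (gamma.left _)) = y
    exact (congrArg (fun z => q ((lift (𝟙 A₀) gy).left z))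
      (Subsingleton.elim (α := Spec (CommRingCat.of L₀)) (gamma.left _) (IsLocalRing.closedPoint L₀))).trans hqy
  rw [← hqb]
  exact mem_interior_closure_of_family A str (j ≫ snd A₀ G) sa sb hsa hsb O (hqa.symm ▸ hxO)

/-- A connected component of a group scheme over a field is irreducible. -/
theorem connectedComponent_eq (x : G.left) : connectedComponent x = irreducibleComponent x := by
  haveI := left_isSeparated G
  refine Set.Subset.antisymm (fun y hy => ?_) irreducibleComponent_subset_connectedComponent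
  obtain ⟨c, hc⟩ := QuasiSober.sober (irreducibleComponent_mem_irreducibleComponents x).1
    isClosed_irreducibleComponent
  obtain ⟨c', hc'⟩ := QuasiSober.sober (irreducibleComponent_mem_irreducibleComponents y).1
    isClosed_irreducibleComponent
  by_contra hyx
  have hne : irreducibleComponent y ≠ irreducibleComponent x := fun e => hyx (e ▸ mem_irreducibleComponent)
  have hncc : c ∉ closure ({c'} : Set G.left) := fun h =>
    hne (GrpSchField.irreducibleComponent_eq_of_mem G (irreducibleComponent_mem_irreducibleComponents y)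
      (irreducibleComponent_mem_irreducibleComponents x) (hc' ▸ h : c ∈ irreducibleComponent y)
      (hc ▸ subset_closure rfl))
  obtain ⟨_, ⟨O, hO, rfl⟩, hcO, hOc⟩ := G.left.isBasis_affineOpens.exists_subset_of_mem_open
    (show c ∈ (closure ({c'} : Set G.left))ᶜ from hncc) isClosed_closure.isOpen_compl
  have hcl : IsClopen (closure (O : Set G.left)) := ⟨isClosed_closure, isOpen_closure O hO⟩
  have hxc : x ∈ closure (O : Set G.left) :=
    closure_mono (Set.singleton_subset_iff.mpr hcO) (hc ▸ mem_irreducibleComponent : x ∈ closure {c})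
  have hyc : y ∈ closure (O : Set G.left) := hcl.connectedComponent_subset hxc hy
  obtain ⟨z, hzO, hzy⟩ := exists_specializes_of_mem_closure hO hyc
  obtain ⟨w, hwz, hwc⟩ := GrpSchField.exists_common_generization G hzy
    (specializes_iff_mem_closure.mpr (hc' ▸ mem_irreducibleComponent : y ∈ closure {c'}))
  have hwO : w ∈ O := hwz.mem_open O.2 hzO
  have h1 : irreducibleComponent y = closure {w} :=
    (irreducibleComponent_mem_irreducibleComponents y).eq_of_le isIrreducible_singleton.closure
      (by rw [← hc']; exact hwc.closure_subset)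
  exact hOc hwO (by rw [hc', h1]; exact subset_closure rfl)

variable (G) in
/-- A connected group scheme over a field is irreducible. -/
theorem irreducibleSpace [ConnectedSpace G.left] : IrreducibleSpace G.left := by
  have h := (irreducibleComponent_mem_irreducibleComponents (η[G].left (IsLocalRing.closedPoint k))).1
  rw [← connectedComponent_eq, PreconnectedSpace.connectedComponent_eq_univ] at h
  exact { isPreirreducible_univ := h.2, toNonempty := ⟨h.1.some⟩ }

/-- A flat morphism maps maximal points to maximal points. -/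
theorem maximal_map {X Y : Scheme.{u}} (f : X ⟶ Y) [Flat f] {c : X} (hc : ∀ x, x ⤳ c → x = c) :
    ∀ y, y ⤳ f c → y = f c := fun y hy => by
  obtain ⟨x, hx, rfl⟩ := Flat.generalizingMap f hy
  rw [hc x hx]

variable (G) in
/-- The connected component of the unit is quasi-compact. -/
theorem isCompact_connectedComponent : IsCompact (connectedComponent (η[G].left (IsLocalRing.closedPoint k))) := by
  let e₀ : G.left := η[G].left (IsLocalRing.closedPoint k)
  have hmax : ∀ {X : Scheme.{u}} (x : X), ∃ c : X, c ⤳ x ∧ ∀ z, z ⤳ c → z = c := by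
    intro X x
    obtain ⟨c, hc⟩ := QuasiSober.sober (irreducibleComponent_mem_irreducibleComponents x).1
      isClosed_irreducibleComponent
    refine ⟨c, specializes_iff_mem_closure.mpr (hc ▸ mem_irreducibleComponent), fun z hz => ?_⟩
    have h1 : irreducibleComponent x = closure {z} :=
      (irreducibleComponent_mem_irreducibleComponents x).eq_of_le isIrreducible_singleton.closure
        (hc ▸ hz.closure_subset)
    exact Inseparable.eq (inseparable_iff_closure_eq.mpr (h1.symm.trans hc.symm))
  obtain ⟨c, hce, hcmax⟩ := hmax e₀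
  obtain ⟨O, hO, hcO, -⟩ := exists_isAffineOpen_mem_and_subset (U := (⊤ : G.left.Opens)) (x := c) trivial
  have huniq : ∀ {a : G.left}, (∀ z, z ⤳ a → z = a) → ∀ {x : G.left}, x ∈ irreducibleComponent e₀ → a ⤳ x →
      a = c := by
    intro a ha x hx hax
    obtain ⟨d, hd⟩ := QuasiSober.sober (irreducibleComponent_mem_irreducibleComponents e₀).1
      isClosed_irreducibleComponent
    obtain ⟨w, hwa, hwd⟩ := GrpSchField.exists_common_generization G hax
      (specializes_iff_mem_closure.mpr (hd ▸ hx : x ∈ closure {d}))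
    obtain ⟨w', hw'w, hw'c⟩ := GrpSchField.exists_common_generization G
      ((hwd.trans (specializes_iff_mem_closure.mpr (hd ▸ mem_irreducibleComponent : e₀ ∈ closure {d})))) hce
    rw [← ha w' (hw'w.trans hwa), hcmax w' hw'c]
  refine ((GrpSchField.isCompact_pairs G hO.isCompact).image μ[G].left.continuous).of_isClosed_subset
    isClosed_connectedComponent ?_
  intro y hy
  rw [connectedComponent_eq] at hy
  let L := AlgebraicClosure (G.left.residueField y)
  let g₀ : Spec (CommRingCat.of L) ⟶ G.left :=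
    Spec.map (CommRingCat.ofHom (algebraMap (G.left.residueField y) L)) ≫ G.left.fromSpecResidueField y
  let A := fieldPt (g₀ ≫ G.hom)
  let g : A ⟶ G := Over.homMk g₀ rfl
  let q : A ⊗ G ⟶ G := snd A G
  let φ : A ⊗ G ⟶ G := (snd A G)⁻¹ * (fst A G ≫ g)
  haveI : Flat q.left := inferInstanceAs (Flat (pullback.snd A.hom G.hom))
  let σ : A ⊗ G ⟶ A ⊗ G := lift (fst A G) ((snd A G)⁻¹ * (fst A G ≫ g))
  haveI : IsIso σ :=
    ⟨lift (fst A G) ((fst A G ≫ g) * (snd A G)⁻¹), by simp [σ, comp_lift, MonObj.comp_mul, GrpObj.comp_inv],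
      by simp [σ, comp_lift, MonObj.comp_mul, GrpObj.comp_inv]⟩
  haveI : IsIso σ.left := inferInstanceAs (IsIso ((Over.forget _).map σ))
  haveI : Flat φ.left := by
    rw [show φ = σ ≫ q from (lift_snd _ _).symm, Over.comp_left]
    infer_instance
  let s : A ⟶ A ⊗ G := lift (𝟙 A) 1
  let e' := s.left (IsLocalRing.closedPoint L)
  obtain ⟨c', hc'e, hc'max⟩ := hmax e'
  have hq : q.left e' = e₀ := by
    show (s ≫ snd A G).left _ = _
    rw [lift_snd, Hom.one_def]
    exact congrArg η[G].left (Subsingleton.elim (α := Spec (CommRingCat.of k)) _ _)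
  have hφ : φ.left e' = y := by
    show (s ≫ φ).left _ = y
    rw [MonObj.comp_mul, GrpObj.comp_inv, lift_snd, lift_fst_assoc, Category.id_comp, inv_one, _root_.one_mul]
    exact fieldPoint_apply y _ _
  have h1 : q.left c' = c :=
    huniq (maximal_map q.left hc'max) mem_irreducibleComponent (hq ▸ hc'e.map q.left.continuous)
  have h2 : φ.left c' = c :=
    huniq (maximal_map φ.left hc'max) hy (hφ ▸ hc'e.map φ.left.continuous)
  refine ⟨(lift q φ).left c', ⟨?_, ?_⟩, ?_⟩
  · show (lift q φ ≫ fst G G).left c' ∈ O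
    rw [lift_fst, h1]
    exact hcO
  · show (lift q φ ≫ snd G G).left c' ∈ O
    rw [lift_snd, h2]
    exact hcO
  · show (lift q φ ≫ μ[G]).left c' = y
    rw [← Hom.mul_def, mul_inv_cancel_left]
    exact fieldPoint_apply y _ _

end GrothLib.ProfTranslate
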