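import Groth.Agent.Lib.ProfTranslate.Closure

/-!
# The identity component as a flat closed subgroup scheme
-/

universe u

open CategoryTheory CategoryTheory.Limits MonoidalCategory CartesianMonoidalCategory MonObj AlgebraicGeometry

namespace GrothLib.ProfTranslate

variable {k : Type u} [Field k] (G : Over (Spec (CommRingCat.of k))) [GrpObj G]

/-- The component of the unit. -/
abbrev unitComponent : Set G.left := connectedComponent (η[G].left (IsLocalRing.closedPoint k))

/-- A point outside the component of the unit is separated from it by a clopen set. -/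
theorem exists_clopen_separating {y : G.left} (hy : y ∉ unitComponent G) :
    ∃ C : G.left.Opens, IsClosed (C : Set G.left) ∧ unitComponent G ⊆ C ∧ y ∉ C := by
  haveI := left_isSeparated G
  let e₀ := η[G].left (IsLocalRing.closedPoint k)
  rw [unitComponent, connectedComponent_eq] at hy
  obtain ⟨c, hc⟩ := QuasiSober.sober (irreducibleComponent_mem_irreducibleComponents e₀).1
    isClosed_irreducibleComponent
  obtain ⟨c', hc'⟩ := QuasiSober.sober (irreducibleComponent_mem_irreducibleComponents y).1
    isClosed_irreducibleComponent
  have hne : irreducibleComponent y ≠ irreducibleComponent e₀ := fun e => hy (e ▸ mem_irreducibleComponent)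
  have hncc : c ∉ closure ({c'} : Set G.left) := fun h =>
    hne (GrpSchField.irreducibleComponent_eq_of_mem G (irreducibleComponent_mem_irreducibleComponents y)
      (irreducibleComponent_mem_irreducibleComponents e₀) (hc' ▸ h : c ∈ irreducibleComponent y)
      (hc ▸ subset_closure rfl))
  obtain ⟨_, ⟨O, hO, rfl⟩, hcO, hOc⟩ := G.left.isBasis_affineOpens.exists_subset_of_mem_open
    (show c ∈ (closure ({c'} : Set G.left))ᶜ from hncc) isClosed_closure.isOpen_compl
  refine ⟨⟨_, isOpen_closure O hO⟩, isClosed_closure, ?_, fun hyc => ?_⟩
  · rw [unitComponent, connectedComponent_eq, ← hc]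
    exact closure_mono (Set.singleton_subset_iff.mpr hcO)
  · obtain ⟨z, hzO, hzy⟩ := exists_specializes_of_mem_closure hO hyc
    obtain ⟨w, hwz, hwc⟩ := GrpSchField.exists_common_generization G hzy
      (specializes_iff_mem_closure.mpr (hc' ▸ mem_irreducibleComponent : y ∈ closure {c'}))
    have h1 : irreducibleComponent y = closure {w} :=
      (irreducibleComponent_mem_irreducibleComponents y).eq_of_le isIrreducible_singleton.closure
        (by rw [← hc']; exact hwc.closure_subset)
    exact hOc (hwz.mem_open O.2 hzO) (by rw [hc', h1]; exact subset_closure rfl)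

/-- The clopen neighbourhoods of the component of the unit. -/
abbrev Nbhd : Type u := {C : G.left.Opens // IsClosed (C : Set G.left) ∧ unitComponent G ⊆ C}

/-- The ideal sheaf of the component of the unit. -/
noncomputable def componentIdeal : G.left.IdealSheafData := ⨆ C : Nbhd G, C.1.ι.ker

theorem range_subschemeι : Set.range (componentIdeal G).subschemeι = unitComponent G := by
  rw [Scheme.IdealSheafData.range_subschemeι]
  have hC : ∀ C : Nbhd G, ((C.1.ι.ker.support : Set G.left)) = C.1 := fun C => by
    haveI : IsClosedImmersion C.1.ι := IsClosedImmersion.of_isPreimmersion _ (by rw [Scheme.Opens.range_ι]; exact C.2.1)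
    rw [Scheme.Hom.support_ker, Scheme.Opens.range_ι, C.2.1.closure_eq]
  ext y
  rw [componentIdeal, Scheme.IdealSheafData.support_iSup]
  simp only [TopologicalSpace.Closeds.coe_iInf, Set.mem_iInter, hC]
  refine ⟨fun h => ?_, fun h C => C.2.2 h⟩
  by_contra hy
  obtain ⟨C, hCc, hCZ, hyC⟩ := exists_clopen_separating G hy
  exact hyC (h ⟨C, hCc, hCZ⟩)

/-- Morphisms landing set-theoretically in the component factor through it. -/
theorem exists_factor {T : Scheme.{u}} (f : T ⟶ G.left) (hf : Set.range f ⊆ unitComponent G) :
    ∃ l : T ⟶ (componentIdeal G).subscheme, l ≫ (componentIdeal G).subschemeι = f := by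
  have h : componentIdeal G ≤ f.ker := iSup_le fun C => by
    rw [← IsOpenImmersion.lift_fac C.1.ι f (by rw [Scheme.Opens.range_ι]; exact hf.trans C.2.2)]
    exact Scheme.Hom.le_ker_comp _ _
  exact ⟨IsClosedImmersion.lift (componentIdeal G).subschemeι f
    (by rw [Scheme.IdealSheafData.ker_subschemeι]; exact h), IsClosedImmersion.lift_fac _ _ _⟩

/-- The inclusion of the component is flat. -/
theorem flat_subschemeι : Flat (componentIdeal G).subschemeι := by
  let i := (componentIdeal G).subschemeι
  rw [Flat.iff_flat_stalkMap]
  intro z
  have hz : i z ∈ unitComponent G := range_subschemeι G ▸ ⟨z, rfl⟩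
  obtain ⟨l, hl⟩ := exists_factor G (G.left.fromSpecStalk (i z)) (by
    rw [Scheme.range_fromSpecStalk]
    intro y hy
    have h1 := isIrreducible_singleton.closure.isConnected.isPreconnected.subset_connectedComponent
      (subset_closure (rfl : y = y))
    rw [unitComponent, connectedComponent_eq (η[G].left (IsLocalRing.closedPoint k))] at hz ⊢
    rw [← connectedComponent_eq] at hz ⊢
    have h2 : i z ∈ connectedComponent y := h1 (specializes_iff_mem_closure.mp hy)
    rw [connectedComponent_eq_iff_mem.mpr hz |>.symm, ← connectedComponent_eq_iff_mem.mpr h2 |>.symm]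
    exact mem_connectedComponent)
  have hlz : l (IsLocalRing.closedPoint (G.left.presheaf.stalk (i z))) = z := by
    refine i.isEmbedding.injective ?_
    show (l ≫ i) (IsLocalRing.closedPoint _) = i z
    rw [hl, Scheme.fromSpecStalk_closedPoint]
  have hbij : Function.Bijective (i.stalkMap z).hom := by
    refine ⟨?_, i.stalkMap_surjective z⟩
    have h1 : Function.Injective (i.stalkMap (l (IsLocalRing.closedPoint (G.left.presheaf.stalk (i z))))).hom := by
      have h2 : IsIso (i.stalkMap (l (IsLocalRing.closedPoint _)) ≫ Scheme.stalkClosedPointTo l) := by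
        rw [← Scheme.stalkClosedPointTo_comp]
        have h3 : ∀ (f : Spec (G.left.presheaf.stalk (i z)) ⟶ G.left), f = G.left.fromSpecStalk (i z) →
            IsIso (Scheme.stalkClosedPointTo f) := by
          rintro f rfl
          rw [Scheme.stalkClosedPointTo_fromSpecStalk]
          infer_instance
        exact h3 _ hl
      have h4 : Function.Injective (i.stalkMap (l (IsLocalRing.closedPoint _)) ≫ Scheme.stalkClosedPointTo l) :=
        ((ConcreteCategory.isIso_iff_bijective _).mp h2).1
      exact fun a b e => h4 (congrArg (Scheme.stalkClosedPointTo l).hom e)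
    exact hlz ▸ h1
  exact RingHom.Flat.of_bijective hbij

/-- The component of the unit as an object over the field. -/
noncomputable abbrev component : Over (Spec (CommRingCat.of k)) :=
  Over.mk ((componentIdeal G).subschemeι ≫ G.hom)

/-- The inclusion of the component. -/
noncomputable abbrev componentIncl : component G ⟶ G := Over.homMk (componentIdeal G).subschemeι

instance : Mono (componentIncl G) :=
  Over.mono_of_mono_left _

/-- Points landing in the component lift. -/
theorem exists_lift_component {T : Over (Spec (CommRingCat.of k))} (x : T ⟶ G)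
    (hx : Set.range x.left ⊆ unitComponent G) : ∃ x₀ : T ⟶ component G, x₀ ≫ componentIncl G = x := by
  obtain ⟨l, hl⟩ := exists_factor G x.left hx
  exact ⟨Over.homMk l (by
    show l ≫ (componentIdeal G).subschemeι ≫ G.hom = T.hom
    rw [← Category.assoc, hl, Over.w x]), Over.OverMorphism.ext hl⟩

theorem geometricallyIrreducible : GeometricallyIrreducible (component G).hom := by
  haveI : IrreducibleSpace (componentIdeal G).subscheme := by
    obtain ⟨c, hc⟩ := QuasiSober.sober
      (irreducibleComponent_mem_irreducibleComponents (η[G].left (IsLocalRing.closedPoint k))).1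
      isClosed_irreducibleComponent
    let i := (componentIdeal G).subschemeι
    have hr : Set.range i = closure {c} := by rw [range_subschemeι, unitComponent, connectedComponent_eq, hc]
    obtain ⟨z, hz⟩ : c ∈ Set.range i := hr ▸ subset_closure rfl
    have hz' : closure ({z} : Set (componentIdeal G).subscheme) = Set.univ := by
      rw [i.isEmbedding.isInducing.closure_eq_preimage_closure_image, Set.image_singleton, hz, ← hr, Set.preimage_range]
    have h := (isIrreducible_singleton (x := z)).closure
    rw [hz'] at h
    exact { isPreirreducible_univ := h.2, toNonempty := ⟨z⟩ }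
  refine GrpSchField.geometricallyIrreducible_component G (componentIdeal G).subschemeι ?_ ?_
  · rw [range_subschemeι, unitComponent, connectedComponent_eq]
    exact irreducibleComponent_mem_irreducibleComponents _
  · rw [range_subschemeι]
    exact mem_connectedComponent

/-- The component of the unit is a subgroup. -/
theorem exists_grpObj : ∃ _ : GrpObj (component G), IsMonHom (componentIncl G) := by
  haveI := geometricallyIrreducible G
  haveI : UniversallyOpen (component G).hom := inferInstance
  haveI : IrreducibleSpace (component G).left :=
    GeometricallyIrreducible.irreducibleSpace_of_subsingleton (f := (component G).hom)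
  haveI : IrreducibleSpace (component G ⊗ component G).left :=
    inferInstanceAs (IrreducibleSpace (pullback (component G).hom (component G).hom : Scheme.{u}))
  have hirr : ∀ {T : Over (Spec (CommRingCat.of k))} [IrreducibleSpace T.left] (x : T ⟶ G),
      η[G].left (IsLocalRing.closedPoint k) ∈ Set.range x.left → Set.range x.left ⊆ unitComponent G := by
    intro T _ x hx
    rw [← Set.image_univ] at hx ⊢
    exact ((IrreducibleSpace.isIrreducible_univ T.left).image x.left
      x.left.continuous.continuousOn).isConnected.isPreconnected.subset_connectedComponent hx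
  obtain ⟨e, he⟩ := exists_lift_component G η[G] (by
    rintro _ ⟨z, rfl⟩
    rw [Subsingleton.elim (α := Spec (CommRingCat.of k)) z (IsLocalRing.closedPoint k)]
    exact mem_connectedComponent)
  obtain ⟨iv, hiv⟩ := exists_lift_component G (componentIncl G ≫ GrpObj.inv) (hirr _ ⟨e.left (IsLocalRing.closedPoint k), by
    show (e ≫ componentIncl G ≫ GrpObj.inv).left _ = _
    rw [reassoc_of% he, GrpObj.one_inv]⟩)
  obtain ⟨m, hm⟩ := exists_lift_component G ((componentIncl G ⊗ₘ componentIncl G) ≫ μ[G])
    (hirr _ ⟨(lift e e).left (IsLocalRing.closedPoint k), by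
      show (lift e e ≫ (componentIncl G ⊗ₘ componentIncl G) ≫ μ[G]).left _ = _
      rw [lift_map_assoc, he, ← Hom.mul_def]
      have h1 : (η[G] : 𝟙_ _ ⟶ G) = 1 := by rw [Hom.one_def, toUnit_unique (toUnit _) (𝟙 _), Category.id_comp]
      rw [h1, _root_.one_mul]⟩)
  let j := componentIncl G
  letI : GrpObj (component G) :=
    { one := e
      mul := m
      inv := iv
      one_mul := by
        rw [← cancel_mono j, Category.assoc, hm, ← MonoidalCategory.tensorHom_id, MonoidalCategory.tensorHom_comp_tensorHom_assoc,
          Category.id_comp, he]
        simp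
        rfl
      mul_one := by
        rw [← cancel_mono j, Category.assoc, hm, ← MonoidalCategory.id_tensorHom, MonoidalCategory.tensorHom_comp_tensorHom_assoc,
          Category.id_comp, he]
        simp
        rfl
      mul_assoc := by
        have hm' : m ≫ j = (fst _ _ ≫ j) * (snd _ _ ≫ j) := by
          rw [hm, Hom.mul_def, ← lift_fst_comp_snd_comp]
        rw [← cancel_mono j]
        simp only [Category.assoc, hm', MonObj.comp_mul, reassoc_of% hm', ← MonoidalCategory.tensorHom_id,
          ← MonoidalCategory.id_tensorHom, tensorHom_fst_assoc, tensorHom_snd_assoc, Category.id_comp,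
          associator_hom_fst_assoc, associator_hom_snd_fst_assoc, associator_hom_snd_snd_assoc, _root_.mul_assoc]
      left_inv := by
        rw [← cancel_mono j, Category.assoc, Category.assoc, hm, lift_map_assoc, hiv, Category.id_comp, he,
          ← Hom.mul_def, ← Hom.inv_def, inv_mul_cancel, Hom.one_def]
      right_inv := by
        rw [← cancel_mono j, Category.assoc, Category.assoc, hm, lift_map_assoc, hiv, Category.id_comp, he,
          ← Hom.mul_def, ← Hom.inv_def, mul_inv_cancel, Hom.one_def] }
  exact ⟨inferInstance, { one_hom := he, mul_hom := hm }⟩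

end GrothLib.ProfTranslate
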